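import Groth.Prelude.Def_W4c2quivmodsheafKron
import Mathlib.Tactic
import Mathlib.LinearAlgebra.FiniteDimensional.Lemmas
import Mathlib.LinearAlgebra.Dual.Lemmas
import Mathlib.LinearAlgebra.Eigenspace.Triangularizable
import Mathlib.LinearAlgebra.Matrix.ToLin
import Mathlib.LinearAlgebra.Matrix.Polynomial
import Mathlib.LinearAlgebra.Matrix.Determinant.Basic

/-! Semistability of Kronecker modules in extremal dimension vectors. -/

set_option autoImplicit false

namespace Groth.Agent.H25Kron
open KronMod Module

universe u v w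
variable {K : Type u} [Field K] {V : Type v} {W : Type w}
  [AddCommGroup V] [Module K V] [FiniteDimensional K V]
  [AddCommGroup W] [Module K W] [FiniteDimensional K W] {n : ℕ}

/-- The combined map `(v_j) ↦ ∑ f_j v_j`. -/
def Φ (f : Fin n → (V →ₗ[K] W)) : (Fin n → V) →ₗ[K] W := ∑ j, (f j).comp (LinearMap.proj j)

omit [FiniteDimensional K V] [FiniteDimensional K W] in
lemma Φ_apply (f : Fin n → (V →ₗ[K] W)) (v : Fin n → V) : Φ f v = ∑ j, f j (v j) := by
  simp [Φ, LinearMap.sum_apply]

omit [FiniteDimensional K V] [FiniteDimensional K W] in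
lemma Φ_single (f : Fin n → (V →ₗ[K] W)) (j : Fin n) (x : V) :
    Φ f (Pi.single j x) = f j x := by
  classical
  rw [Φ_apply, Finset.sum_eq_single j] <;> simp +contextual [Pi.single_apply]

omit [FiniteDimensional K V] [FiniteDimensional K W] in
lemma subrep_range (f : Fin n → (V →ₗ[K] W)) (V' : Submodule K V) :
    IsSubrep f V' (LinearMap.range ((Φ f).comp (LinearMap.pi fun j =>
      V'.subtype.comp (LinearMap.proj j : (Fin n → V') →ₗ[K] V')))) := by
  classical
  intro j
  rintro _ ⟨x, hx, rfl⟩
  refine ⟨Pi.single j ⟨x, hx⟩, ?_⟩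
  rw [LinearMap.comp_apply, ← Φ_single f j x]
  congr 1
  funext i
  rcases eq_or_ne i j with rfl | h
  · simp
  · simp [h]

lemma finrank_range_le (f : Fin n → (V →ₗ[K] W)) (V' : Submodule K V) :
    finrank K (LinearMap.range ((Φ f).comp (LinearMap.pi fun j =>
      V'.subtype.comp (LinearMap.proj j : (Fin n → V') →ₗ[K] V')))) ≤ n * finrank K V' :=
  (LinearMap.finrank_range_le _).trans (by simp [Module.finrank_pi_fintype])

lemma not_semistable_of_out_of_range (f : Fin n → (V →ₗ[K] W)) (hV : 0 < finrank K V)
    (hW : 0 < finrank K W) (h : n * finrank K V < finrank K W ∨ n * finrank K W < finrank K V) :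
    ¬ IsSemistable f := by
  rintro ⟨-, hs⟩
  rcases h with h | h
  · have hr : finrank K (LinearMap.range (Φ f)) ≤ n * finrank K V :=
      (LinearMap.finrank_range_le _).trans (by simp [Module.finrank_pi_fintype])
    have := hs ⊤ (LinearMap.range (Φ f)) (fun j => by
      rintro _ ⟨x, -, rfl⟩; exact ⟨_, Φ_single f j x⟩)
      (fun e => by
        have := congrArg (fun S : Submodule K V => finrank K S) e.1
        simp only [finrank_bot, finrank_top] at this; omega)
      (fun e => by
        have := congrArg (fun S : Submodule K W => finrank K S) e.2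
        simp only [finrank_bot, finrank_top] at this; omega)
    rw [finrank_top, mul_comm] at this
    have := Nat.le_of_mul_le_mul_left this hV
    omega
  · let Ψ : V →ₗ[K] (Fin n → W) := LinearMap.pi f
    have hk := LinearMap.finrank_range_add_finrank_ker Ψ
    have hr : finrank K (LinearMap.range Ψ) ≤ n * finrank K W :=
      (Submodule.finrank_le _).trans (by simp [Module.finrank_pi_fintype])
    have := hs (LinearMap.ker Ψ) ⊥ (fun j => by
      rintro _ ⟨x, hx, rfl⟩
      exact (Submodule.mem_bot K).2 (congrFun (show Ψ x = 0 from hx) j))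
      (fun e => by
        have := congrArg (fun S : Submodule K V => finrank K S) e.1
        simp only [finrank_bot, finrank_top] at this; omega)
      (fun e => by
        have := congrArg (fun S : Submodule K W => finrank K S) e.2
        simp only [finrank_bot, finrank_top] at this; omega)
    rw [finrank_bot, mul_zero, Nat.le_zero, mul_eq_zero] at this
    omega

lemma semistable_iff_source (f : Fin n → (V →ₗ[K] W)) (hV : 0 < finrank K V)
    (hW : finrank K W = n * finrank K V) :
    IsSemistable f ↔ Function.Bijective (Φ f) := by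
  have hfr : finrank K (Fin n → V) = finrank K W := by simp [Module.finrank_pi_fintype, hW]
  constructor
  · rintro ⟨-, hs⟩
    have hsurj : Function.Surjective (Φ f) := by
      rw [← LinearMap.range_eq_top]
      by_contra hne
      have := hs ⊤ (LinearMap.range (Φ f)) (fun j => by
        rintro _ ⟨x, -, rfl⟩; exact ⟨_, Φ_single f j x⟩)
        (fun e => by
          have := congrArg (fun S : Submodule K V => finrank K S) e.1
          simp at this; omega)
        (fun e => hne e.2)
      rw [finrank_top, mul_comm] at this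
      exact (Submodule.finrank_lt hne).not_ge (Nat.le_of_mul_le_mul_left this hV)
    exact ⟨(LinearMap.injective_iff_surjective_of_finrank_eq_finrank hfr).2 hsurj, hsurj⟩
  · intro hb
    refine ⟨by omega, fun V' W' hsub _ _ => ?_⟩
    have h1 : Function.Injective ((Φ f).comp (LinearMap.pi fun j =>
        V'.subtype.comp (LinearMap.proj j : (Fin n → V') →ₗ[K] V'))) := by
      intro x y e
      have := hb.1 e
      funext j
      exact Subtype.ext (congrFun this j)
    have h2 : LinearMap.range ((Φ f).comp (LinearMap.pi fun j =>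
        V'.subtype.comp (LinearMap.proj j : (Fin n → V') →ₗ[K] V'))) ≤ W' := by
      rintro _ ⟨x, rfl⟩
      rw [LinearMap.comp_apply, Φ_apply]
      exact sum_mem fun j _ => hsub j ⟨x j, (x j).2, rfl⟩
    have h3 := Submodule.finrank_mono h2
    rw [LinearMap.finrank_range_of_inj h1, Module.finrank_pi_fintype] at h3
    simp at h3
    rw [hW, mul_comm n, mul_assoc]
    exact Nat.mul_le_mul_left _ h3

lemma semistable_iff_target (f : Fin n → (V →ₗ[K] W)) (hW : 0 < finrank K W)
    (hV : finrank K V = n * finrank K W) :
    IsSemistable f ↔ Function.Bijective (LinearMap.pi f : V →ₗ[K] Fin n → W) := by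
  have hfr : finrank K V = finrank K (Fin n → W) := by simp [Module.finrank_pi_fintype, hV]
  constructor
  · rintro ⟨-, hs⟩
    have hinj : Function.Injective (LinearMap.pi f : V →ₗ[K] Fin n → W) := by
      rw [← LinearMap.ker_eq_bot]
      by_contra hne
      have := hs (LinearMap.ker (LinearMap.pi f)) ⊥ (fun j => by
        rintro _ ⟨x, hx, rfl⟩
        exact (Submodule.mem_bot K).2 (congrFun (show LinearMap.pi f x = 0 from hx) j))
        (fun e => hne e.1)
        (fun e => by
          have := congrArg (fun S : Submodule K W => finrank K S) e.2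
          simp at this; omega)
      rw [finrank_bot, mul_zero, Nat.le_zero, mul_eq_zero] at this
      rcases this with h | h
      · omega
      · exact hne (Submodule.finrank_eq_zero.1 h)
    exact ⟨hinj, (LinearMap.injective_iff_surjective_of_finrank_eq_finrank hfr).1 hinj⟩
  · intro hb
    refine ⟨by omega, fun V' W' hsub _ _ => ?_⟩
    let g : V' →ₗ[K] (Fin n → W') :=
      LinearMap.pi fun j => ((f j).comp V'.subtype).codRestrict W' (fun x => hsub j ⟨x, x.2, rfl⟩)
    have hg : Function.Injective g := fun x y e =>
      Subtype.ext (hb.1 (funext fun j => congrArg Subtype.val (congrFun e j)))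
    have h3 := LinearMap.finrank_le_finrank_of_injective hg
    rw [Module.finrank_pi_fintype] at h3
    simp at h3
    rw [hV]
    calc finrank K W * finrank K V' ≤ finrank K W * (n * finrank K W') := Nat.mul_le_mul_left _ h3
      _ = _ := by ring

lemma exists_line (hV : 0 < finrank K V) : ∃ L : Submodule K V, finrank K L = 1 := by
  have := Module.nontrivial_of_finrank_pos hV
  obtain ⟨x, hx⟩ := exists_ne (0 : V)
  exact ⟨Submodule.span K {x}, finrank_span_singleton hx⟩

lemma stable_semistable {f : Fin n → (V →ₗ[K] W)} (h : IsStable f) : IsSemistable f :=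
  ⟨h.1, fun V' W' a b c => (h.2 V' W' a b c).le⟩

lemma stable_iff_source (f : Fin n → (V →ₗ[K] W)) (hV : 0 < finrank K V)
    (hW : finrank K W = n * finrank K V) :
    IsStable f ↔ (IsSemistable f ∧ finrank K V = 1) := by
  constructor
  · intro h
    refine ⟨stable_semistable h, ?_⟩
    by_contra h1
    obtain ⟨L, hL⟩ := exists_line (K := K) hV
    have hne : L ≠ ⊤ := fun e => h1 (by rw [e, finrank_top] at hL; exact hL)
    have hne' : L ≠ ⊥ := fun e => by rw [e, finrank_bot] at hL; omega
    have hlt := h.2 L _ (subrep_range f L) (fun e => hne' e.1) (fun e => hne e.1)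
    rw [hL, mul_one, hW, mul_comm n] at hlt
    have hle := finrank_range_le f L
    rw [hL, mul_one] at hle
    exact absurd (Nat.mul_le_mul_left (finrank K V) hle) (not_le.2 hlt)
  · rintro ⟨h, h1⟩
    refine ⟨h.1, fun V' W' hsub hbot htop => ?_⟩
    rcases (show finrank K V' = 0 ∨ finrank K V' = 1 by
      have := Submodule.finrank_le V'; omega) with h0 | h0
    · have hW' : W' ≠ ⊥ := fun e => hbot ⟨Submodule.finrank_eq_zero.1 h0, e⟩
      have : 0 < finrank K W' := Nat.pos_of_ne_zero fun e => hW' (Submodule.finrank_eq_zero.1 e)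
      rw [h0, mul_zero, h1, one_mul]; exact this
    · exfalso
      have hVt : V' = ⊤ := Submodule.eq_top_of_finrank_eq (h0.trans h1.symm)
      refine htop ⟨hVt, eq_top_iff.2 fun y _ => ?_⟩
      obtain ⟨x, rfl⟩ := ((semistable_iff_source f hV hW).1 h).2 y
      rw [Φ_apply]
      exact sum_mem fun j _ => hsub j ⟨x j, by rw [hVt]; trivial, rfl⟩

lemma stable_iff_target (f : Fin n → (V →ₗ[K] W)) (hW : 0 < finrank K W)
    (hV : finrank K V = n * finrank K W) :
    IsStable f ↔ (IsSemistable f ∧ finrank K W = 1) := by
  constructor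
  · intro h
    have hss := stable_semistable h
    refine ⟨hss, ?_⟩
    by_contra h1
    obtain ⟨L, hL⟩ := exists_line (K := K) hW
    have hne : L ≠ ⊤ := fun e => h1 (by rw [e, finrank_top] at hL; exact hL)
    have hne' : L ≠ ⊥ := fun e => by rw [e, finrank_bot] at hL; omega
    let e := LinearEquiv.ofBijective _ ((semistable_iff_target f hW hV).1 hss)
    let g : (Fin n → L) →ₗ[K] V := e.symm.toLinearMap.comp
      (LinearMap.pi fun j => L.subtype.comp (LinearMap.proj j))
    have hg : Function.Injective g := fun x y he => by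
      funext j
      exact Subtype.ext (congrFun (e.symm.injective he) j)
    have hd : finrank K (LinearMap.range g) = n := by
      rw [LinearMap.finrank_range_of_inj hg, Module.finrank_pi_fintype]; simp [hL]
    have hlt := h.2 (LinearMap.range g) L (fun j => by
      rintro _ ⟨_, ⟨x, rfl⟩, rfl⟩
      have : e (g x) = fun i => (x i : W) := e.apply_symm_apply _
      have := congrFun this j
      show f j (g x) ∈ L
      rw [show f j (g x) = x j from this]
      exact (x j).2) (fun e' => hne' e'.2) (fun e' => hne e'.2)
    rw [hd, hL, hV, mul_one, mul_comm n] at hlt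
    exact lt_irrefl _ hlt
  · rintro ⟨h, h1⟩
    refine ⟨h.1, fun V' W' hsub hbot htop => ?_⟩
    rcases (show finrank K W' = 0 ∨ finrank K W' = 1 by
      have := Submodule.finrank_le W'; omega) with h0 | h0
    · exfalso
      have hWb : W' = ⊥ := Submodule.finrank_eq_zero.1 h0
      refine hbot ⟨(Submodule.eq_bot_iff _).2 fun x hx => ?_, hWb⟩
      apply ((semistable_iff_target f hW hV).1 h).1
      funext j
      have := hsub j ⟨x, hx, rfl⟩
      rw [hWb, Submodule.mem_bot] at this
      simpa using this
    · have hVne : V' ≠ ⊤ := fun e => htop ⟨e, Submodule.eq_top_of_finrank_eq (h0.trans h1.symm)⟩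
      rw [h1, one_mul, h0, mul_one]
      exact Submodule.finrank_lt hVne

omit [FiniteDimensional K V] [FiniteDimensional K W] in
lemma areIso_of_source {f f' : Fin n → (V →ₗ[K] W)} (h : Function.Bijective (Φ f))
    (h' : Function.Bijective (Φ f')) : AreIso f f' := by
  refine ⟨LinearEquiv.refl K V,
    (LinearEquiv.ofBijective _ h).symm.trans (LinearEquiv.ofBijective _ h'), fun j => ?_⟩
  ext x
  show LinearEquiv.ofBijective _ h' ((LinearEquiv.ofBijective _ h).symm (f j x)) = f' j x
  have : (LinearEquiv.ofBijective _ h).symm (f j x) = Pi.single j x := by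
    rw [LinearEquiv.symm_apply_eq]; exact (Φ_single f j x).symm
  rw [this]
  exact Φ_single f' j x

omit [FiniteDimensional K V] [FiniteDimensional K W] in
lemma areIso_of_target {f f' : Fin n → (V →ₗ[K] W)}
    (h : Function.Bijective (LinearMap.pi f : V →ₗ[K] Fin n → W))
    (h' : Function.Bijective (LinearMap.pi f' : V →ₗ[K] Fin n → W)) : AreIso f f' := by
  refine ⟨(LinearEquiv.ofBijective _ h).trans (LinearEquiv.ofBijective _ h').symm,
    LinearEquiv.refl K W, fun j => ?_⟩
  ext x
  show f j x = f' j ((LinearEquiv.ofBijective _ h').symm (LinearEquiv.ofBijective _ h x))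
  exact (congrFun ((LinearEquiv.ofBijective _ h').apply_symm_apply
    (LinearEquiv.ofBijective _ h x)) j).symm

lemma exists_source (hV : 0 < finrank K V) (hW : finrank K W = n * finrank K V) :
    (∃ f : Fin n → (V →ₗ[K] W), IsSemistable f) ∧
      ∀ f f' : Fin n → (V →ₗ[K] W), IsSemistable f → IsSemistable f' → AreIso f f' := by
  classical
  refine ⟨?_, fun f f' h h' => areIso_of_source ((semistable_iff_source f hV hW).1 h)
    ((semistable_iff_source f' hV hW).1 h')⟩
  let e : (Fin n → V) ≃ₗ[K] W := LinearEquiv.ofFinrankEq _ _ (by simp [Module.finrank_pi_fintype, hW])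
  refine ⟨fun j => e.toLinearMap.comp (LinearMap.single K (fun _ => V) j), ?_⟩
  rw [semistable_iff_source _ hV hW]
  convert e.bijective
  ext v
  rw [Φ_apply]
  simp [← map_sum, Finset.univ_sum_single]

lemma exists_target (hW : 0 < finrank K W) (hV : finrank K V = n * finrank K W) :
    (∃ f : Fin n → (V →ₗ[K] W), IsSemistable f) ∧
      ∀ f f' : Fin n → (V →ₗ[K] W), IsSemistable f → IsSemistable f' → AreIso f f' := by
  refine ⟨?_, fun f f' h h' => areIso_of_target ((semistable_iff_target f hW hV).1 h)
    ((semistable_iff_target f' hW hV).1 h')⟩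
  let e : V ≃ₗ[K] (Fin n → W) := LinearEquiv.ofFinrankEq _ _ (by simp [Module.finrank_pi_fintype, hV])
  refine ⟨fun j => (LinearMap.proj j).comp e.toLinearMap, ?_⟩
  rw [semistable_iff_target _ hW hV]
  exact e.bijective

lemma dim_one (f : Fin n → (V →ₗ[K] W)) (hV : finrank K V = 1) (hW : finrank K W = 1) :
    (IsSemistable f ↔ f ≠ 0) ∧ (IsStable f ↔ f ≠ 0) := by
  have key : f ≠ 0 → IsStable f := by
    refine fun hf => ⟨by omega, fun V' W' hsub hbot htop => ?_⟩
    rw [hV, hW, one_mul, one_mul]
    have hv := Submodule.finrank_le V'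
    have hw := Submodule.finrank_le W'
    rcases (show finrank K V' = 0 ∨ finrank K V' = 1 by omega) with h0 | h0
    · have : finrank K W' ≠ 0 := fun e =>
        hbot ⟨Submodule.finrank_eq_zero.1 h0, Submodule.finrank_eq_zero.1 e⟩
      omega
    · exfalso
      rcases (show finrank K W' = 0 ∨ finrank K W' = 1 by omega) with h1 | h1
      · apply hf
        funext j
        ext x
        have := hsub j ⟨x, by rw [Submodule.eq_top_of_finrank_eq (h0.trans hV.symm)]; trivial, rfl⟩
        rwa [Submodule.finrank_eq_zero.1 h1, Submodule.mem_bot] at this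
      · exact htop ⟨Submodule.eq_top_of_finrank_eq (h0.trans hV.symm),
          Submodule.eq_top_of_finrank_eq (h1.trans hW.symm)⟩
  have key' : IsSemistable f → f ≠ 0 := by
    rintro ⟨-, hs⟩ rfl
    have := hs ⊤ ⊥ (fun j => by simp)
      (fun e => by
        have := congrArg (fun S : Submodule K V => finrank K S) e.1
        simp at this; omega)
      (fun e => by
        have := congrArg (fun S : Submodule K W => finrank K S) e.2
        simp at this; omega)
    simp [hV, hW] at this
  exact ⟨⟨key', fun h => stable_semistable (key h)⟩, fun h => key' (stable_semistable h), key⟩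

lemma semistable_of_bijective (f : Fin n → (V →ₗ[K] W)) {k : ℕ} (hk : 1 ≤ k)
    (hV : finrank K V = k) (hW : finrank K W = k) (z : Fin n → K)
    (hz : Function.Bijective ((∑ j, z j • f j : V →ₗ[K] W) : V → W)) : IsSemistable f := by
  refine ⟨by omega, fun V' W' hsub _ _ => ?_⟩
  rw [hV, hW]
  refine Nat.mul_le_mul_left k ?_
  rw [LinearEquiv.finrank_eq (Submodule.equivMapOfInjective _ hz.1 V')]
  refine Submodule.finrank_mono ?_
  rintro _ ⟨x, hx, rfl⟩
  rw [LinearMap.sum_apply]
  exact sum_mem fun j _ => W'.smul_mem _ (hsub j ⟨x, hx, rfl⟩)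

lemma semistable_dual (f : Fin n → (V →ₗ[K] W)) :
    (IsSemistable f ↔ IsSemistable (fun j => (f j).dualMap)) ∧
    (IsStable f ↔ IsStable (fun j => (f j).dualMap)) := by
  have hdV : finrank K (Module.Dual K V) = finrank K V := Subspace.dual_finrank_eq
  have hdW : finrank K (Module.Dual K W) = finrank K W := Subspace.dual_finrank_eq
  have aV : ∀ S : Submodule K V, finrank K S + finrank K S.dualAnnihilator = finrank K V :=
    fun S => Subspace.finrank_add_finrank_dualAnnihilator_eq S
  have aW : ∀ S : Submodule K W, finrank K S + finrank K S.dualAnnihilator = finrank K W :=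
    fun S => Subspace.finrank_add_finrank_dualAnnihilator_eq S
  have cV : ∀ S : Submodule K (Module.Dual K V),
      finrank K S + finrank K S.dualCoannihilator = finrank K V :=
    fun S => Subspace.finrank_add_finrank_dualCoannihilator_eq S
  have cW : ∀ S : Submodule K (Module.Dual K W),
      finrank K S + finrank K S.dualCoannihilator = finrank K W :=
    fun S => Subspace.finrank_add_finrank_dualCoannihilator_eq S
  -- transport of subrepresentations
  have fwd : ∀ (V' : Submodule K V) (W' : Submodule K W), IsSubrep f V' W' →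
      ¬ (V' = ⊥ ∧ W' = ⊥) → ¬ (V' = ⊤ ∧ W' = ⊤) →
      ∃ (A : Submodule K (Module.Dual K W)) (B : Submodule K (Module.Dual K V)),
        IsSubrep (fun j => (f j).dualMap) A B ∧ ¬ (A = ⊥ ∧ B = ⊥) ∧ ¬ (A = ⊤ ∧ B = ⊤) ∧
        finrank K A + finrank K W' = finrank K W ∧ finrank K B + finrank K V' = finrank K V := by
    intro V' W' hsub hbot htop
    refine ⟨W'.dualAnnihilator, V'.dualAnnihilator, fun j => ?_, fun e => htop ⟨?_, ?_⟩,
      fun e => hbot ⟨?_, ?_⟩, by have := aW W'; omega, by have := aV V'; omega⟩
    · rintro _ ⟨φ, hφ, rfl⟩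
      rw [Submodule.mem_dualAnnihilator]
      exact fun x hx => (Submodule.mem_dualAnnihilator φ).1 hφ _ (hsub j ⟨x, hx, rfl⟩)
    · apply Submodule.eq_top_of_finrank_eq
      have h1 := aV V'; rw [e.2] at h1; simpa using h1
    · apply Submodule.eq_top_of_finrank_eq
      have h1 := aW W'; rw [e.1] at h1; simpa using h1
    · apply Submodule.finrank_eq_zero.1
      have h1 := aV V'; rw [e.2, finrank_top, hdV] at h1; omega
    · apply Submodule.finrank_eq_zero.1
      have h1 := aW W'; rw [e.1, finrank_top, hdW] at h1; omega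
  have bwd : ∀ (A : Submodule K (Module.Dual K W)) (B : Submodule K (Module.Dual K V)),
      IsSubrep (fun j => (f j).dualMap) A B → ¬ (A = ⊥ ∧ B = ⊥) → ¬ (A = ⊤ ∧ B = ⊤) →
      ∃ (V' : Submodule K V) (W' : Submodule K W), IsSubrep f V' W' ∧
        ¬ (V' = ⊥ ∧ W' = ⊥) ∧ ¬ (V' = ⊤ ∧ W' = ⊤) ∧
        finrank K A + finrank K W' = finrank K W ∧ finrank K B + finrank K V' = finrank K V := by
    intro A B hsub hbot htop
    refine ⟨B.dualCoannihilator, A.dualCoannihilator, fun j => ?_, fun e => htop ⟨?_, ?_⟩,
      fun e => hbot ⟨?_, ?_⟩, cW A, cV B⟩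
    · rintro _ ⟨x, hx, rfl⟩
      rw [Submodule.mem_dualCoannihilator]
      exact fun φ hφ => (Submodule.mem_dualCoannihilator x).1 hx _ (hsub j ⟨φ, hφ, rfl⟩)
    · apply Submodule.eq_top_of_finrank_eq
      have h1 := cW A; rw [e.2] at h1; rw [hdW]; simpa using h1
    · apply Submodule.eq_top_of_finrank_eq
      have h1 := cV B; rw [e.1] at h1; rw [hdV]; simpa using h1
    · apply Submodule.finrank_eq_zero.1
      have h1 := cW A; rw [e.2, finrank_top] at h1; omega
    · apply Submodule.finrank_eq_zero.1
      have h1 := cV B; rw [e.1, finrank_top] at h1; omega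
  constructor
  · constructor
    · rintro ⟨hp, hs⟩
      refine ⟨by omega, fun A B hsub hbot htop => ?_⟩
      obtain ⟨V', W', h1, h2, h3, e1, e2⟩ := bwd A B hsub hbot htop
      have := hs V' W' h1 h2 h3
      rw [hdV, hdW]
      nlinarith
    · rintro ⟨hp, hs⟩
      refine ⟨by omega, fun V' W' hsub hbot htop => ?_⟩
      obtain ⟨A, B, h1, h2, h3, e1, e2⟩ := fwd V' W' hsub hbot htop
      have := hs A B h1 h2 h3
      rw [hdV, hdW] at this
      nlinarith
  · constructor
    · rintro ⟨hp, hs⟩
      refine ⟨by omega, fun A B hsub hbot htop => ?_⟩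
      obtain ⟨V', W', h1, h2, h3, e1, e2⟩ := bwd A B hsub hbot htop
      have := hs V' W' h1 h2 h3
      rw [hdV, hdW]
      nlinarith
    · rintro ⟨hp, hs⟩
      refine ⟨by omega, fun V' W' hsub hbot htop => ?_⟩
      obtain ⟨A, B, h1, h2, h3, e1, e2⟩ := fwd V' W' hsub hbot htop
      have := hs A B h1 h2 h3
      rw [hdV, hdW] at this
      nlinarith

open Polynomial in
lemma exists_bijective_two [Infinite K] (f : Fin 2 → (V →ₗ[K] W)) {k : ℕ}
    (hV : finrank K V = k) (hW : finrank K W = k) (hf : IsSemistable f) :
    ∃ z : Fin 2 → K, Function.Bijective ((∑ j, z j • f j : V →ₗ[K] W) : V → W) := by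
  classical
  let eV : V ≃ₗ[K] (Fin k → K) := LinearEquiv.ofFinrankEq _ _ (by simp [hV])
  let eW : W ≃ₗ[K] (Fin k → K) := LinearEquiv.ofFinrankEq _ _ (by simp [hW])
  let M : Fin 2 → Matrix (Fin k) (Fin k) K := fun j =>
    LinearMap.toMatrix' (eW.toLinearMap.comp ((f j).comp eV.symm.toLinearMap))
  have hMv : ∀ j x, (M j).mulVec (eV x) = eW (f j x) := fun j x => by
    simp [M, LinearMap.toMatrix'_mulVec]
  let P : Matrix (Fin k) (Fin k) K[X] :=
    (M 0).map Polynomial.C + (Polynomial.X : K[X]) • (M 1).map Polynomial.C
  by_cases hdet : P.det = 0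
  · exfalso
    obtain ⟨v, hv, hPv⟩ := Matrix.exists_mulVec_eq_zero_iff.2 hdet
    let co : ℕ → V := fun i => eV.symm fun l => (v l).coeff i
    have hco : ∀ i, eV (co i) = fun l => (v l).coeff i := fun i => eV.apply_symm_apply _
    have hM0 : ∀ i, (fun a => (((M 0).map Polynomial.C).mulVec v a).coeff i) = eW (f 0 (co i)) := by
      intro i
      rw [← hMv, hco]
      funext a
      simp [Matrix.mulVec, dotProduct, Polynomial.finsetSum_coeff]
    have hM1 : ∀ i, (fun a => (((M 1).map Polynomial.C).mulVec v a).coeff i) = eW (f 1 (co i)) := by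
      intro i
      rw [← hMv, hco]
      funext a
      simp [Matrix.mulVec, dotProduct, Polynomial.finsetSum_coeff]
    have hPa : ∀ a, ((M 0).map Polynomial.C).mulVec v a +
        Polynomial.X * ((M 1).map Polynomial.C).mulVec v a = 0 := fun a => by
      have := congrFun hPv a
      simpa [P, Matrix.add_mulVec, Matrix.smul_mulVec] using this
    have h0 : f 0 (co 0) = 0 := by
      apply eW.injective
      rw [← hM0, map_zero]
      funext a
      have := congrArg (fun p => Polynomial.coeff p 0) (hPa a)
      simpa using this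
    have hs : ∀ i, f 1 (co i) = -f 0 (co (i + 1)) := fun i => by
      apply eW.injective
      rw [map_neg, ← hM0, ← hM1]
      funext a
      have := congrArg (fun p => Polynomial.coeff p (i + 1)) (hPa a)
      simp [Polynomial.coeff_X_mul] at this
      exact eq_neg_of_add_eq_zero_right this
    let V' := Submodule.span K (Set.range co)
    have hsub : IsSubrep f V' (V'.map (f 0)) := by
      intro j
      fin_cases j
      · exact le_rfl
      · show V'.map (f 1) ≤ V'.map (f 0)
        rw [Submodule.map_span, Submodule.span_le]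
        rintro _ ⟨_, ⟨i, rfl⟩, rfl⟩
        rw [hs]
        exact Submodule.neg_mem _ ⟨_, Submodule.subset_span ⟨i + 1, rfl⟩, rfl⟩
    -- the first nonzero coefficient is killed by `f 0`
    obtain ⟨i, hi, hi'⟩ : ∃ i, co i ≠ 0 ∧ f 0 (co i) = 0 := by
      have hne : ∃ i, co i ≠ 0 := by
        by_contra! h
        refine hv (funext fun l => Polynomial.ext fun i => ?_)
        simpa [congrArg eV (h i)] using (congrFun (hco i) l).symm
      refine ⟨Nat.find hne, Nat.find_spec hne, ?_⟩
      rcases hn : Nat.find hne with _ | m
      · exact h0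
      · have : co m = 0 := not_not.1 (Nat.find_min hne (show m < Nat.find hne by omega))
        have h2 := hs m
        rw [this, map_zero, zero_eq_neg] at h2
        exact h2
    have hmem : co i ∈ V' := Submodule.subset_span ⟨i, rfl⟩
    have hlt : finrank K (V'.map (f 0)) < finrank K V' := by
      have h1 := LinearMap.finrank_range_add_finrank_ker ((f 0).comp V'.subtype)
      rw [LinearMap.range_comp, Submodule.range_subtype] at h1
      have : 0 < finrank K (LinearMap.ker ((f 0).comp V'.subtype)) := by
        refine Nat.pos_of_ne_zero fun e => hi ?_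
        have : (⟨co i, hmem⟩ : V') ∈ LinearMap.ker ((f 0).comp V'.subtype) := hi'
        rw [Submodule.finrank_eq_zero.1 e, Submodule.mem_bot] at this
        exact congrArg Subtype.val this
      omega
    have hle := hf.2 V' _ hsub
      (fun e => by rw [e.1] at hmem; exact hi ((Submodule.mem_bot K).1 hmem))
      (fun e => by
        have e2 : finrank K (V'.map (f 0)) = k := by rw [e.2, finrank_top, hW]
        have := Submodule.finrank_le V'
        omega)
    rw [hV, hW] at hle
    have hk : 0 < k := by have := Submodule.finrank_le V'; omega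
    have := Nat.le_of_mul_le_mul_left hle hk
    omega
  · obtain ⟨t, ht⟩ : ∃ t, P.det.eval t ≠ 0 := by
      by_contra! h
      exact hdet (Polynomial.funext fun t => by simp [h t])
    refine ⟨![1, t], ?_⟩
    have hu : IsUnit (M 0 + t • M 1).det := by
      rw [isUnit_iff_ne_zero]
      have : P.det.eval t = (M 0 + t • M 1).det := by
        rw [← Polynomial.coe_evalRingHom, RingHom.map_det]
        congr 1
        ext a b
        simp [P]
        ring
      rwa [← this]
    have hb : Function.Bijective (M 0 + t • M 1).mulVec :=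
      ⟨Matrix.mulVec_injective_iff_isUnit.2 ((Matrix.isUnit_iff_isUnit_det _).2 hu),
        Matrix.mulVec_surjective_iff_isUnit.2 ((Matrix.isUnit_iff_isUnit_det _).2 hu)⟩
    have he : ∀ x, eW ((∑ j, (![1, t] : Fin 2 → K) j • f j : V →ₗ[K] W) x) =
        (M 0 + t • M 1).mulVec (eV x) := fun x => by
      simp [Fin.sum_univ_two, Matrix.add_mulVec, Matrix.smul_mulVec, hMv]
    have : ((∑ j, (![1, t] : Fin 2 → K) j • f j : V →ₗ[K] W) : V → W) =
        eW.symm ∘ (M 0 + t • M 1).mulVec ∘ eV := funext fun x => by
      rw [Function.comp_apply, Function.comp_apply, ← he, eW.symm_apply_apply]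
    rw [this]
    exact eW.symm.bijective.comp (hb.comp eV.bijective)

lemma not_stable_two [IsAlgClosed K] (f : Fin 2 → (V →ₗ[K] W)) {k : ℕ} (hk : 2 ≤ k)
    (hV : finrank K V = k) (hW : finrank K W = k) : ¬ IsStable f := by
  intro hs
  obtain ⟨z, hz⟩ := exists_bijective_two f hV hW (stable_semistable hs)
  have := Module.nontrivial_of_finrank_pos (R := K) (M := V) (by omega)
  let e : V ≃ₗ[K] W := LinearEquiv.ofBijective _ hz
  have he : ∀ x, e x = z 0 • f 0 x + z 1 • f 1 x := fun x => by
    simp [e, Fin.sum_univ_two]
  obtain ⟨i, l, hzi, hij⟩ : ∃ i l : Fin 2, z i ≠ 0 ∧ ∀ j : Fin 2, j = i ∨ j = l := by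
    by_cases h0 : z 0 = 0
    · refine ⟨1, 0, fun h1 => ?_, fun j => by fin_cases j <;> simp⟩
      obtain ⟨x, hx⟩ := exists_ne (0 : V)
      exact hx (e.injective (by rw [he, h0, h1]; simp))
    · exact ⟨0, 1, h0, fun j => by fin_cases j <;> simp⟩
  obtain ⟨c, hc⟩ := Module.End.exists_eigenvalue (e.symm.toLinearMap.comp (f l) : Module.End K V)
  obtain ⟨x, hx⟩ := hc.exists_hasEigenvector
  have hx1 : f l x = c • e x := by
    have := congrArg e hx.apply_eq_smul
    simpa using this
  have hfi : ∀ j, f j x ∈ Submodule.span K {e x} := by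
    intro j
    rcases hij j with rfl | rfl
    · have hsum : e x = z j • f j x + (if l = j then 0 else z l • f l x) := by
        rw [he]
        rcases hij 0 with h0 | h0 <;> rcases hij 1 with h1 | h1 <;>
          (try (rw [← h0] at h1; exact absurd h1 (by decide))) <;> subst h0 h1 <;> simp [add_comm]
      have hmem : z j • f j x ∈ Submodule.span K {e x} := by
        have h' : z j • f j x = e x - (if l = j then 0 else z l • f l x) := by rw [hsum]; abel
        rw [h']
        refine sub_mem (Submodule.mem_span_singleton_self _) ?_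
        split_ifs
        · exact zero_mem _
        · exact Submodule.smul_mem _ _ (Submodule.mem_span_singleton.2 ⟨c, hx1.symm⟩)
      exact (Submodule.smul_mem_iff _ hzi).1 hmem
    · exact Submodule.mem_span_singleton.2 ⟨c, hx1.symm⟩
  have hex : e x ≠ 0 := fun h => hx.2 (e.injective (by rw [h, map_zero]))
  have hlt := hs.2 (Submodule.span K {x}) (Submodule.span K {e x})
    (fun j => by
      rintro _ ⟨y, hy, rfl⟩
      obtain ⟨a, rfl⟩ := Submodule.mem_span_singleton.1 hy
      rw [map_smul]
      exact Submodule.smul_mem _ _ (hfi j))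
    (fun h => by
      have h1 := congrArg (fun S : Submodule K V => finrank K S) h.1
      simp only [finrank_span_singleton hx.2, finrank_bot] at h1; omega)
    (fun h => by
      have h1 := congrArg (fun S : Submodule K V => finrank K S) h.1
      simp only [finrank_span_singleton hx.2, finrank_top] at h1; omega)
  rw [finrank_span_singleton hx.2, finrank_span_singleton hex, hV, hW] at hlt
  exact lt_irrefl _ hlt

lemma exists_bijective_dim_two (f : Fin n → (V →ₗ[K] W)) (hV : finrank K V = 2)
    (hW : finrank K W = 2) (hf : IsSemistable f) :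
    ∃ z : Fin n → K, Function.Bijective ((∑ j, z j • f j : V →ₗ[K] W) : V → W) := by
  classical
  by_contra hcon
  push Not at hcon
  have hfr : finrank K V = finrank K W := hV.trans hW.symm
  have rk : ∀ g : V →ₗ[K] W, (∃ z : Fin n → K, g = ∑ j, z j • f j) →
      ¬ Function.Injective g := fun g ⟨z, hz⟩ hi =>
    hcon z (hz ▸ ⟨hi, (LinearMap.injective_iff_surjective_of_finrank_eq_finrank hfr).1 hi⟩)
  have single : ∀ j, ∃ z : Fin n → K, f j = ∑ i, z i • f i := fun j =>
    ⟨Pi.single j 1, by rw [Finset.sum_eq_single j] <;> simp +contextual [Pi.single_apply]⟩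
  have pair : ∀ j l, ∃ z : Fin n → K, f j + f l = ∑ i, z i • f i := fun j l => by
    obtain ⟨z, hz⟩ := single j
    obtain ⟨z', hz'⟩ := single l
    exact ⟨z + z', by rw [hz, hz', ← Finset.sum_add_distrib]; simp [add_smul]⟩
  -- no common kernel, no common image
  have noker : ∀ v : V, v ≠ 0 → ∃ j, f j v ≠ 0 := fun v hv => by
    by_contra! h
    have := hf.2 (Submodule.span K {v}) ⊥ (fun j => by
        rintro _ ⟨y, hy, rfl⟩
        obtain ⟨a, rfl⟩ := Submodule.mem_span_singleton.1 hy
        simp [h j])
      (fun e => by
        have h1 := congrArg (fun S : Submodule K V => finrank K S) e.1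
        simp only [finrank_span_singleton hv, finrank_bot] at h1; omega)
      (fun e => by
        have h1 := congrArg (fun S : Submodule K W => finrank K S) e.2
        simp only [finrank_top, finrank_bot] at h1; omega)
    simp [finrank_span_singleton hv, hW] at this
  have noim : ∀ p : W, ∃ j x, f j x ∉ Submodule.span K {p} := fun p => by
    by_contra! h
    have hp : finrank K (Submodule.span K {p}) ≤ 1 := by
      have := finrank_span_le_card (R := K) ({p} : Set W); simpa using this
    have := hf.2 ⊤ (Submodule.span K {p}) (fun j => by rintro _ ⟨y, -, rfl⟩; exact h j y)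
      (fun e => by
        have h1 := congrArg (fun S : Submodule K V => finrank K S) e.1
        simp [hV] at h1)
      (fun e => by
        have h1 := congrArg (fun S : Submodule K W => finrank K S) e.2
        simp only [finrank_top, hW] at h1; omega)
    simp [hV, hW] at this
    omega
  -- two maps that cannot both be singular together with their sum
  have crit : ∀ j l (v u : V), f j v = 0 → f l v ≠ 0 →
      (f j u + f l u) ∈ Submodule.span K {f l v} := by
    intro j l v u hjv hlv
    by_contra hmem
    have hu : u ∉ Submodule.span K {v} := by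
      rintro hu
      obtain ⟨a, rfl⟩ := Submodule.mem_span_singleton.1 hu
      exact hmem (Submodule.mem_span_singleton.2 ⟨a, by simp [hjv]⟩)
    refine rk _ (pair j l) ?_
    rw [← LinearMap.ker_eq_bot, eq_bot_iff]
    intro y hy
    have hv : v ≠ 0 := fun e => hlv (by rw [e, map_zero])
    have hli : LinearIndependent K ![v, u] := by
      rw [LinearIndependent.pair_iff' hv]
      exact fun a e => hu (Submodule.mem_span_singleton.2 ⟨a, e⟩)
    have hy' : y ∈ Submodule.span K (Set.range ![v, u]) := by
      rw [hli.span_eq_top_of_card_eq_finrank (by simp [hV])]; trivial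
    rw [Matrix.range_cons_cons_empty, Submodule.mem_span_pair] at hy'
    obtain ⟨a, b, rfl⟩ := hy'
    have hy2 : a • f l v + b • (f j u + f l u) = 0 := by
      have h0 : (f j + f l) (a • v + b • u) = 0 := hy
      simpa [hjv, smul_add, add_comm, add_left_comm, add_assoc] using h0
    have hb : b = 0 := by
      by_contra hb
      refine hmem (Submodule.mem_span_singleton.2 ⟨-(a / b), ?_⟩)
      have h9 := congrArg (fun w => b⁻¹ • w) hy2
      simp only [smul_add, smul_smul, inv_mul_cancel₀ hb, one_smul, smul_zero] at h9
      rw [← sub_eq_zero, ← neg_eq_zero, ← h9]; module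
    rw [hb, zero_smul, add_zero] at hy2 ⊢
    rw [(smul_eq_zero.1 hy2).resolve_right hlv]
    simp
  have hne : Nontrivial V := Module.nontrivial_of_finrank_pos (R := K) (by omega)
  obtain ⟨w, hw⟩ := exists_ne (0 : V)
  obtain ⟨i, hi⟩ := noker w hw
  obtain ⟨v, hv, hv0⟩ : ∃ v, f i v = 0 ∧ v ≠ 0 := by
    by_contra! h
    exact rk _ (single i) (LinearMap.ker_eq_bot.1 ((Submodule.eq_bot_iff _).2 fun y hy => h y hy))
  obtain ⟨l, hl⟩ := noker v hv0
  -- every `f j` has image in the line of `f l v`
  obtain ⟨j, x, hjx⟩ := noim (f l v)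
  have hil : ∀ u, f i u + f l u ∈ Submodule.span K {f l v} := fun u => crit i l v u hv hl
  -- image of `f l` is the line through `f l v`
  have hlim : ∀ u, f l u ∈ Submodule.span K {f l v} := by
    intro u
    by_contra hu
    refine rk _ (single l) ?_
    rw [← LinearMap.ker_eq_bot, eq_bot_iff]
    intro y hy
    have hvu : u ∉ Submodule.span K {v} := by
      rintro h
      obtain ⟨a, rfl⟩ := Submodule.mem_span_singleton.1 h
      exact hu (Submodule.mem_span_singleton.2 ⟨a, by simp⟩)
    have hli : LinearIndependent K ![v, u] := by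
      rw [LinearIndependent.pair_iff' hv0]
      exact fun a e => hvu (Submodule.mem_span_singleton.2 ⟨a, e⟩)
    have hy' : y ∈ Submodule.span K (Set.range ![v, u]) := by
      rw [hli.span_eq_top_of_card_eq_finrank (by simp [hV])]; trivial
    rw [Matrix.range_cons_cons_empty, Submodule.mem_span_pair] at hy'
    obtain ⟨a, b, rfl⟩ := hy'
    have hy2 : a • f l v + b • f l u = 0 := by
      have : f l (a • v + b • u) = 0 := hy
      simpa using this
    have hb : b = 0 := by
      by_contra hb
      refine hu (Submodule.mem_span_singleton.2 ⟨-(a / b), ?_⟩)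
      have h9 := congrArg (fun z => b⁻¹ • z) hy2
      simp only [smul_add, smul_smul, inv_mul_cancel₀ hb, one_smul, smul_zero] at h9
      rw [← sub_eq_zero, ← neg_eq_zero, ← h9]; module
    rw [hb, zero_smul, add_zero] at hy2 ⊢
    rw [(smul_eq_zero.1 hy2).resolve_right hl]
    simp
  have hiim : ∀ u, f i u ∈ Submodule.span K {f l v} := fun u =>
    (Submodule.add_mem_iff_left _ (hlim u)).1 (hil u)
  by_cases hjv : f j v = 0
  · exact hjx ((Submodule.add_mem_iff_left _ (hlim x)).1 (crit j l v x hjv hl))
  · have h1 : f i x + f j x ∈ Submodule.span K {f j v} := crit i j v x hv hjv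
    have h2 : f i w + f j w ∈ Submodule.span K {f j v} := crit i j v w hv hjv
    -- the image of `f j` is the line through `f j v`
    have hjline : ∀ u, f j u ∈ Submodule.span K {f j v} := by
      intro u
      by_contra hu
      refine rk _ (single j) ?_
      rw [← LinearMap.ker_eq_bot, eq_bot_iff]
      intro y hy
      have hvu : u ∉ Submodule.span K {v} := by
        rintro h
        obtain ⟨a, rfl⟩ := Submodule.mem_span_singleton.1 h
        exact hu (Submodule.mem_span_singleton.2 ⟨a, by simp⟩)
      have hli : LinearIndependent K ![v, u] := by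
        rw [LinearIndependent.pair_iff' hv0]
        exact fun a e => hvu (Submodule.mem_span_singleton.2 ⟨a, e⟩)
      have hy' : y ∈ Submodule.span K (Set.range ![v, u]) := by
        rw [hli.span_eq_top_of_card_eq_finrank (by simp [hV])]; trivial
      rw [Matrix.range_cons_cons_empty, Submodule.mem_span_pair] at hy'
      obtain ⟨a, b, rfl⟩ := hy'
      have hy2 : a • f j v + b • f j u = 0 := by
        have : f j (a • v + b • u) = 0 := hy
        simpa using this
      have hb : b = 0 := by
        by_contra hb
        refine hu (Submodule.mem_span_singleton.2 ⟨-(a / b), ?_⟩)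
        have h9 := congrArg (fun z => b⁻¹ • z) hy2
        simp only [smul_add, smul_smul, inv_mul_cancel₀ hb, one_smul, smul_zero] at h9
        rw [← sub_eq_zero, ← neg_eq_zero, ← h9]; module
      rw [hb, zero_smul, add_zero] at hy2 ⊢
      rw [(smul_eq_zero.1 hy2).resolve_right hjv]
      simp
    have hiw : f i w ∈ Submodule.span K {f j v} :=
      (Submodule.add_mem_iff_left _ (hjline w)).1 h2
    have heq : Submodule.span K {f j v} = Submodule.span K {f l v} := by
      obtain ⟨a, ha⟩ := Submodule.mem_span_singleton.1 hiw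
      obtain ⟨b, hb⟩ := Submodule.mem_span_singleton.1 (hiim w)
      have ha0 : a ≠ 0 := fun e => hi (by rw [← ha, e, zero_smul])
      have hb0 : b ≠ 0 := fun e => hi (by rw [← hb, e, zero_smul])
      rw [← Submodule.span_singleton_smul_eq (IsUnit.mk0 a ha0) (f j v),
        ← Submodule.span_singleton_smul_eq (IsUnit.mk0 b hb0) (f l v), ha, hb]
    exact hjx (heq ▸ hjline x)

end Groth.Agent.H25Kron
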